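import Cfsg.Agent.Lib.ChevFixed.Field
import Cfsg.Agent.Lib.ChevFixed.Basic

/-!
The centraliser of a regular torus element: if the values of the roots at h are distinct and different
from 1, then everything in the group commuting with h is in the torus.
-/

set_option autoImplicit false
set_option linter.unusedSectionVars false

namespace Cfsg.Agent.Lib.ChevStructure.G2Torus.Regular

open Cfsg.Lie Cfsg.Agent.Lib.ChevStructure
open scoped MatrixGroups

variable {D : ChevalleyDatum} {C : Core D} (H : CommOK C) {F : Type*} [Field F]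
include H

/-- An element of U fixed by a torus element without root value 1 is trivial. -/
theorem eq_one_of_fixed {c : Fin D.rank → Fˣ} (h1 : ∀ r, C.chA c r ≠ 1) {u : GL D.Idx F}
    (hu : u ∈ C.US F C.Pos) (hfix : C.HT F c * u * (C.HT F c)⁻¹ = u) : u = 1 := by
  obtain ⟨t, rfl⟩ := H.exists_posWord F hu
  have e : C.HT F c * C.wordX F C.posL t * (C.HT F c)⁻¹ =
      C.wordX F C.posL fun r => (C.chA c r : F) * t r := by
    rw [← MulAut.conj_apply, Core.wordX, map_list_prod, List.map_map, Core.wordX]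
    exact congrArg List.prod (List.map_congr_left fun r _ => C.HT_X_conj F c r (t r))
  have hz : ∀ r ∈ C.posL, t r = 0 := by
    intro r hr
    have h2 := C.wordX_unique F C.posL_sorted (fun q hq => C.mem_posL.1 hq) (e.symm.trans hfix) r hr
    rw [mul_eq_right₀_or] at h2
    rcases h2 with h2 | h2
    · exact absurd (Units.ext h2) (h1 r)
    · exact h2
  rw [Core.wordX]
  refine List.prod_eq_one fun g hg => ?_
  rw [List.mem_map] at hg
  obtain ⟨r, hr, rfl⟩ := hg
  rw [hz r hr, C.X_zero]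
where
  mul_eq_right₀_or {a b : F} : a * b = b ↔ a = 1 ∨ b = 0 := by
    rcases eq_or_ne b 0 with rfl | hb
    · simp
    · simp [hb]

/-- The centraliser of a torus element without root value 1 and with trivial stabiliser in the Weyl group
is the torus. -/
theorem exists_HT_of_commute_stab {c : Fin D.rank → Fˣ} (h1 : ∀ r, C.chA c r ≠ 1)
    (h2 : ∀ σ ∈ C.WG, (∀ r, C.chA c (σ r) = C.chA c r) → σ = 1) {g : GL D.Idx F} (hg : g ∈ D.group F)
    (hc : Commute g (C.HT F c)) : ∃ e, g = C.HT F e := by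
  obtain ⟨v, e, L, u, hv, hu, rfl⟩ := ChevFixed.Basic.exists_normalForm H hg
  set h := C.HT F c with hh
  have hUv : ∀ (S : Set (Rt D)) (x : GL D.Idx F), x ∈ C.US F S → h * x * h⁻¹ ∈ C.US F S := fun S x hx =>
    (Subgroup.mem_normalizer_iff.1 (C.HT_mem_normalizer F c S) x).1 hx
  obtain ⟨e', he'⟩ := C.wprod_HT F L c⁻¹
  have hinv : C.HT F c⁻¹ = h⁻¹ := by
    refine eq_inv_of_mul_eq_one_left ?_
    rw [hh, C.HT_mul, inv_mul_cancel, C.HT_one]
  have hfix : (h * v * h⁻¹ * (C.HT F (c * e) * C.HT F e')) * C.wprod F L * (h * u * h⁻¹) =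
      v * C.HT F e * C.wprod F L * u := by
    have hw : C.HT F e' * C.wprod F L = C.wprod F L * h⁻¹ := by rw [← hinv]; exact he'.symm
    calc (h * v * h⁻¹ * (C.HT F (c * e) * C.HT F e')) * C.wprod F L * (h * u * h⁻¹)
        = h * v * h⁻¹ * C.HT F (c * e) * (C.HT F e' * C.wprod F L) * (h * u * h⁻¹) := by group
      _ = h * v * h⁻¹ * (h * C.HT F e) * (C.wprod F L * h⁻¹) * (h * u * h⁻¹) := by rw [hw, hh, C.HT_mul]
      _ = h * (v * C.HT F e * C.wprod F L * u) * h⁻¹ := by group
      _ = _ := by rw [← hc.eq, mul_inv_cancel_right]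
  obtain ⟨hu', hb⟩ := ChevFixed.Basic.normalForm_unique (C.acts_wprod F L)
    (mul_mem (C.posUS_le_borel (hUv _ v hv))
      (mul_mem (C.diagonal_le_borel (C.HT_mem_diagonal _)) (C.diagonal_le_borel (C.HT_mem_diagonal _))))
    (mul_mem (C.posUS_le_borel hv) (C.diagonal_le_borel (C.HT_mem_diagonal e)))
    (hUv _ u hu) hu hfix
  have hu1 : u = 1 := eq_one_of_fixed H h1 (C.US_mono F (fun r hr => hr.1) hu) hu'
  have hv1 : v = 1 := by
    refine eq_one_of_fixed H h1 hv ?_
    have h3 : v⁻¹ * (h * v * h⁻¹) = C.HT F e * (C.HT F (c * e) * C.HT F e')⁻¹ := by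
      rw [eq_mul_inv_iff_mul_eq, mul_assoc, hb, inv_mul_cancel_left]
    have h4 : v⁻¹ * (h * v * h⁻¹) = 1 := by
      rw [← Subgroup.mem_bot, ← C.US_inf_diagonal]
      refine Subgroup.mem_inf.2 ⟨mul_mem (inv_mem hv) (hUv _ v hv), ?_⟩
      rw [h3]
      exact mul_mem (C.HT_mem_diagonal _) (inv_mem (mul_mem (C.HT_mem_diagonal _) (C.HT_mem_diagonal _)))
    exact (inv_mul_eq_one.1 h4).symm
  subst hu1 hv1
  rw [one_mul, mul_one] at hc ⊢
  have hperm : C.pprod L = 1 := by
    refine h2 _ (C.pprod_mem_WG L) fun r => ?_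
    obtain ⟨ε, hε⟩ := C.acts_HT_wprod F e L r
    set n := C.HT F e * C.wprod F L
    have e1 : h * (n * C.X F r 1 * n⁻¹) * h⁻¹ = n * (h * C.X F r 1 * h⁻¹) * n⁻¹ := by
      calc h * (n * C.X F r 1 * n⁻¹) * h⁻¹ = (h * n) * C.X F r 1 * (h * n)⁻¹ := by group
        _ = (n * h) * C.X F r 1 * (n * h)⁻¹ := by rw [hc.eq]
        _ = _ := by group
    rw [hh, hε, C.HT_X_conj, C.HT_X_conj, hε, mul_one, mul_one] at e1
    have e2 : (C.chA c (C.pprod L r) : F) * ε = ε * (C.chA c r : F) := by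
      have h5 : C.X F (C.pprod L r) ((C.chA c (C.pprod L r) : F) * ε - ε * (C.chA c r : F)) = 1 := by
        rw [sub_eq_add_neg, ← C.X_add, ← C.X_inv, e1, mul_inv_cancel]
      exact sub_eq_zero.1 (C.X_eq_one h5)
    exact Units.ext (mul_right_cancel₀ ε.ne_zero (e2.trans (mul_comm _ _)))
  obtain ⟨d, hd⟩ := C.wprod_eq_HT_of_pprod_eq_one F hperm
  exact ⟨e * d, by rw [hd, C.HT_mul]⟩

/-- The centraliser of a regular torus element is the torus. -/
theorem exists_HT_of_commute {c : Fin D.rank → Fˣ} (h1 : ∀ r, C.chA c r ≠ 1)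
    (h2 : Function.Injective (C.chA c)) {g : GL D.Idx F} (hg : g ∈ D.group F)
    (hc : Commute g (C.HT F c)) : ∃ e, g = C.HT F e :=
  exists_HT_of_commute_stab H h1 (fun _ _ h => Equiv.ext fun r => h2 (h r)) hg hc

end Cfsg.Agent.Lib.ChevStructure.G2Torus.Regular
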