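import Cfsg.Agent.Lib.ChevStructure.G2Torus.SL3
import Cfsg.Agent.Lib.ChevStructure.G2Torus.Regular
import Cfsg.Agent.Lib.ChevStructure.CommGL

/-!
G₂(q), q ≥ 3, has a self-centralising cyclic subgroup of order q² + q + 1.
-/

set_option autoImplicit false
set_option linter.unusedSectionVars false

namespace Cfsg.Agent.Lib.ChevStructure.G2Torus

open Cfsg.Lie Matrix
open scoped MatrixGroups

section Diag

variable {R : Type*} [CommRing R]

/-- diagonal entries of the element of SL₃ going to HT e -/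
def dval (e : Fin chevG2.rank → Rˣ) : Fin 3 → Rˣ :=
  ![e ⟨1, by decide⟩ / e ⟨0, by decide⟩, e ⟨0, by decide⟩ ^ 2 / e ⟨1, by decide⟩, (e ⟨0, by decide⟩)⁻¹]

/-- the element of SL₃ going to HT e -/
def dSL (e : Fin chevG2.rank → Rˣ) : SL(3, R) :=
  ⟨Matrix.diagonal fun i => (dval e i : R), by
    have h : dval e 0 * dval e 1 * dval e 2 = 1 := by
      simp only [dval, Matrix.cons_val_zero, Matrix.cons_val_one, Matrix.cons_val_two, Matrix.tail_cons,
        Matrix.head_cons]
      rw [← div_self' (e ⟨0, by decide⟩ ^ 2)]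
      generalize e ⟨0, by decide⟩ = a, e ⟨1, by decide⟩ = b
      simp [div_eq_mul_inv, sq, mul_comm, mul_left_comm, mul_assoc]
    rw [Matrix.det_diagonal, Fin.prod_univ_three, ← Units.val_mul, ← Units.val_mul, h, Units.val_one]⟩

theorem A_tab : ∀ (j : Fin chevG2.rank) (r : Rt chevG2), A chevG2 j r =
    (if j.val = 0 then [0, -3, -1, 1, -2, 3, -3, 2, -1, 1, 3, 0] else [-1, 1, 0, -1, 1, -2, 2, -1, 1, 0, -1, 1]).getD
      r.val 0 := by decide +kernel

theorem chA_eq (e : Fin chevG2.rank → Rˣ) (r : Rt chevG2) :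
    C.chA e r = e ⟨0, by decide⟩ ^ A chevG2 ⟨0, by decide⟩ r * e ⟨1, by decide⟩ ^ A chevG2 ⟨1, by decide⟩ r :=
  Fin.prod_univ_two (fun j : Fin 2 => e j ^ A chevG2 j r)

/-- the weight of a root as a function of the diagonal entries -/
def wtv (d : Fin 3 → Rˣ) (r : Rt chevG2) : Rˣ :=
  [d 2 / d 0, d 2 / d 1, d 2, (d 0)⁻¹, (d 1)⁻¹, d 1 / d 0, d 0 / d 1, d 1, d 0, (d 2)⁻¹, d 1 / d 2, d 0 / d 2].getD r.val 1

theorem wtv_eq (e : Fin chevG2.rank → Rˣ) (r : Rt chevG2) : wtv (dval e) r = C.chA e r := by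
  rw [chA_eq, A_tab, A_tab]
  fin_cases r <;>
    (simp [wtv, dval]
     try (apply Additive.ofMul.injective; simp; abel))

theorem act_diag (d : Fin 3 → Rˣ) (c : chevG2.Idx → R) (a : chevG2.Idx) :
    valL (actL (Matrix.diagonal fun i => (d i : R)) (Matrix.diagonal fun i => (((d i)⁻¹ : Rˣ) : R))
      (embL c)) a = (Sum.elim (fun _ => (1 : R)) (fun s => (wtv d s : R)) a) * c a := by
  have hd : ∀ (i : Fin 3) (x : R), (d i : R) * x * (((d i)⁻¹ : Rˣ) : R) = x := fun i x => by
    rw [mul_right_comm, Units.mul_inv, one_mul]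
  rcases a with i | r
  · fin_cases i <;> simp [valL, embL, actL, Matrix.diagonal_mul, Matrix.mul_diagonal, hd]
  · fin_cases r <;>
      simp [valL, embL, actL, ix, wtv, Matrix.diagonal_mul, Matrix.mul_diagonal, Matrix.mulVec_diagonal,
        Matrix.vecMul_diagonal, div_eq_mul_inv, mul_comm, mul_left_comm, mul_assoc] <;> rfl

theorem rho_dSL (e : Fin chevG2.rank → Rˣ) : rho (dSL e) = C.HT R e := by
  have hinv : ((dSL e)⁻¹ : SL(3, R)).1 = Matrix.diagonal fun i => (((dval e i)⁻¹ : Rˣ) : R) := by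
    have h1 : dSL e * ⟨Matrix.diagonal fun i => (((dval e i)⁻¹ : Rˣ) : R), by
        have h2 := (dSL e).2
        simp only [dSL, Matrix.det_diagonal] at h2 ⊢
        have h3 : (∏ i, dval e i) = 1 := Units.ext (by rw [Units.coe_prod, h2, Units.val_one])
        rw [← Units.coe_prod, Finset.prod_inv_distrib, h3, inv_one, Units.val_one]⟩ = 1 :=
      Subtype.ext (show Matrix.diagonal _ * Matrix.diagonal _ = 1 by simp [Matrix.diagonal_mul_diagonal])
    rw [inv_eq_of_mul_eq_one_right h1]
  refine Units.ext ?_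
  ext a b
  rw [rho_val, hinv, rhoM, opM_apply]
  show valL (actL (Matrix.diagonal fun i => (dval e i : R)) _ _) a = _
  rw [act_diag]
  simp only [wtv_eq]
  show _ = Matrix.diagonal (Sum.elim (fun _ => (1 : R)) fun s => (C.chA e s : R)) a b
  by_cases h : a = b
  · subst h; simp
  · simp [h]

theorem val_dSL (e : Fin chevG2.rank → Rˣ) : (dSL e).1 = Matrix.diagonal fun i => (dval e i : R) := rfl

end Diag

/-- the exponent of λ at a root: coefficient of q and constant -/
def eA (r : Rt chevG2) : ℤ := A chevG2 ⟨0, by decide⟩ r + A chevG2 ⟨1, by decide⟩ r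

/-- constant part of the exponent -/
def eB (r : Rt chevG2) : ℤ := A chevG2 ⟨0, by decide⟩ r + 2 * A chevG2 ⟨1, by decide⟩ r

theorem exp_bound : ∀ r : Rt chevG2, |eA r| ≤ 2 ∧ |eB r| ≤ 2 ∧ ¬ (eA r = 0 ∧ eB r = 0) := by
  unfold Rt; decide +kernel

theorem exp_pair : ∀ r s : Rt chevG2, r ≠ s → ¬ (eA r - eA s = 0 ∧ eB r - eB s = 0) ∧
    ¬ (4 * (eA r - eA s) + (eB r - eB s) = 0) ∧ ¬ ((13 : ℤ) ∣ 3 * (eA r - eA s) + (eB r - eB s)) := by
  unfold Rt; decide +kernel

theorem small_eq_zero {q a b : ℤ} (hb : |b| < q) (h : a * q + b = 0) : a = 0 ∧ b = 0 := by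
  have h1 : q ∣ b := ⟨-a, by linarith⟩
  have h2 := Int.eq_zero_of_abs_lt_dvd h1 hb
  subst h2
  have hq : q ≠ 0 := by rw [abs_zero] at hb; omega
  exact ⟨by simpa [hq] using h, rfl⟩

theorem exponent_sep {q : ℤ} (hq : 3 ≤ q) (r s : Rt chevG2)
    (h : q ^ 2 + q + 1 ∣ (eA r - eA s) * q + (eB r - eB s)) : r = s := by
  by_contra hne
  obtain ⟨h1, h2, h3⟩ := exp_pair r s hne
  rcases eq_or_lt_of_le hq with rfl | hq4
  · rw [mul_comm] at h; exact h3 (by simpa using h)
  have hr := exp_bound r
  have hs := exp_bound s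
  simp only [abs_le] at hr hs
  have h0 : (eA r - eA s) * q + (eB r - eB s) = 0 := by
    refine Int.eq_zero_of_abs_lt_dvd h ?_
    rw [abs_lt]
    constructor <;> nlinarith
  rcases eq_or_lt_of_le (show (4 : ℤ) ≤ q by omega) with rfl | hq5
  · exact h2 (by linarith)
  · exact h1 (small_eq_zero (by rw [abs_lt]; omega) h0)

theorem exponent_ne {q : ℤ} (hq : 3 ≤ q) (r : Rt chevG2) : ¬ q ^ 2 + q + 1 ∣ eA r * q + eB r := by
  intro h
  obtain ⟨ha, hb, hne⟩ := exp_bound r
  rw [abs_le] at ha
  have hb' := abs_le.1 hb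
  refine hne (small_eq_zero (by omega) (Int.eq_zero_of_abs_lt_dvd h ?_))
  rw [abs_lt]
  constructor <;> nlinarith

variable {F : Type*} [Field F] [Fintype F]

theorem exists_torus (q : ℕ) (hF : Fintype.card F = q) (hq : 3 ≤ q) :
    ∃ H : Subgroup ↥(chevG2.group F), IsCyclic ↥H ∧ Nat.card ↥H = q ^ 2 + q + 1 ∧
      Subgroup.centralizer (H : Set ↥(chevG2.group F)) = H := by
  classical
  obtain ⟨p, hp⟩ := CharP.exists F
  haveI : Fact p.Prime := ⟨CharP.char_is_prime F p⟩
  let K := FiniteField.Extension F p 3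
  haveI : Finite K := Module.finite_of_finite F
  letI : Fintype K := Fintype.ofFinite K
  have hq' : Nat.card F = q := by rw [Nat.card_eq_fintype_card, hF]
  have hK : Nat.card K = q ^ 3 := by rw [FiniteField.natCard_extension, hq']
  set n := q ^ 2 + q + 1 with hn
  have hqn : (q - 1) * n = q ^ 3 - 1 := by
    obtain ⟨k, rfl⟩ : ∃ k, q = k + 1 := ⟨q - 1, by omega⟩
    rw [Nat.add_sub_cancel]
    refine (Nat.sub_eq_of_eq_add ?_).symm
    rw [hn]; ring
  obtain ⟨γ, hγ⟩ := IsCyclic.exists_generator (α := Kˣ)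
  have hγo : orderOf γ = q ^ 3 - 1 := by
    rw [orderOf_eq_card_of_forall_mem_zpowers hγ, Nat.card_units, hK]
  set l : Kˣ := γ ^ (q - 1) with hl
  have hlo : orderOf l = n := by
    rw [hl, orderOf_pow' γ (show q - 1 ≠ 0 by omega), hγo, ← hqn, Nat.gcd_mul_right_left,
      Nat.mul_div_cancel_left _ (by omega)]
  have hlroot : ∀ μ : Kˣ, μ ^ n = 1 → μ ∈ Subgroup.zpowers l := by
    intro μ hμ
    obtain ⟨j, rfl⟩ := (mem_powers_iff_mem_zpowers (x := γ)).2 (hγ μ)
    simp only [← pow_mul] at hμ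
    have hd := orderOf_dvd_of_pow_eq_one hμ
    rw [hγo, ← hqn] at hd
    obtain ⟨i, hi⟩ := Nat.dvd_of_mul_dvd_mul_right (by omega) hd
    exact ⟨i, by simp only; rw [zpow_natCast, hl, ← pow_mul, ← hi]⟩
  let σ : K →+* K := (FiniteField.Extension.frob F p 3).toAlgHom.toRingHom
  have hσ : ∀ x : K, σ x = x ^ q := fun x => by
    rw [← hq']; exact FiniteField.Extension.frob_apply F p 3
  have hσf : ∀ a : F, σ (algebraMap F K a) = algebraMap F K a := fun a => AlgEquiv.commutes _ a
  have hfixed : ∀ x : K, σ x = x → ∃ a : F, algebraMap F K a = x := by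
    intro x hx
    by_contra hne
    push Not at hne
    have hdeg : (Polynomial.X ^ q - Polynomial.X : Polynomial K).natDegree = q :=
      FiniteField.X_pow_card_sub_X_natDegree_eq K (by omega)
    have hP : (Polynomial.X ^ q - Polynomial.X : Polynomial K) ≠ 0 := fun h => by
      rw [h, Polynomial.natDegree_zero] at hdeg; omega
    have hsub : insert x (Finset.univ.image (algebraMap F K)) ⊆
        (Polynomial.X ^ q - Polynomial.X : Polynomial K).roots.toFinset := by
      intro y hy
      have hy' : y ^ q = y := by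
        rw [← hσ]
        rcases Finset.mem_insert.1 hy with rfl | hy
        · exact hx
        · obtain ⟨a, -, rfl⟩ := Finset.mem_image.1 hy; exact hσf a
      rw [Multiset.mem_toFinset, Polynomial.mem_roots hP]
      simp [hy']
    have h1 := (Finset.card_le_card hsub).trans ((Multiset.toFinset_card_le _).trans (Polynomial.card_roots' _))
    rw [Finset.card_insert_of_notMem (by simpa using hne),
      Finset.card_image_of_injective _ (algebraMap F K).injective, Finset.card_univ, hF, hdeg] at h1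
    omega
  -- the diagonalised generator
  let e : Fin chevG2.rank → Kˣ := fun j => if j.val = 0 then l ^ (1 + q) else l ^ (2 + q)
  have hn0 : (l : Kˣ) ^ n = 1 := by rw [← hlo]; exact pow_orderOf_eq_one l
  have hchA : ∀ r, C.chA e r = l ^ (eA r * (q : ℤ) + eB r) := by
    intro r
    rw [chA_eq]
    simp only [e, if_true, one_ne_zero, if_false]
    rw [← zpow_natCast, ← zpow_natCast, ← _root_.zpow_mul, ← _root_.zpow_mul, ← _root_.zpow_add, eA, eB]
    congr 1
    push_cast
    ring
  have hreg1 : ∀ r, C.chA e r ≠ 1 := fun r h => by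
    rw [hchA, ← orderOf_dvd_iff_zpow_eq_one, hlo, hn] at h
    push_cast at h
    exact exponent_ne (q := (q : ℤ)) (by omega) r h
  have hreg2 : Function.Injective (C.chA e) := fun r s h => by
    rw [hchA, hchA, ← mul_inv_eq_one, ← _root_.zpow_neg, ← _root_.zpow_add, ← orderOf_dvd_iff_zpow_eq_one, hlo,
      hn] at h
    refine exponent_sep (q := (q : ℤ)) (by omega) r s ?_
    push_cast at h
    convert h using 1
    ring
  -- multiplication matrices
  have hrank : Module.finrank F K = 3 := FiniteField.finrank_extension F p 3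
  let b : Module.Basis (Fin 3) F K := Module.finBasisOfFinrankEq F K hrank
  have hdetM : ∀ μ : Kˣ, μ ^ n = 1 → (Algebra.leftMulMatrix b (μ : K)).det = 1 := by
    intro μ hμ
    rw [← Algebra.norm_eq_matrix_det b]
    apply (algebraMap F K).injective
    rw [FiniteField.algebraMap_norm_eq_pow, hK, hq', ← hqn, Nat.mul_div_cancel_left _ (by omega), map_one,
      ← Units.val_pow_eq_pow_val, hμ, Units.val_one]
  let ψ : ↥(Subgroup.zpowers l) →* SL(3, F) :=
    { toFun := fun μ => ⟨Algebra.leftMulMatrix b ((μ.1 : Kˣ) : K), hdetM μ.1 (by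
        obtain ⟨i, hi⟩ := μ.2
        simp only at hi
        rw [← hi, ← zpow_natCast, ← _root_.zpow_mul, mul_comm, _root_.zpow_mul, zpow_natCast, hn0, _root_.one_zpow])⟩
      map_one' := Subtype.ext (by simp)
      map_mul' := fun x y => Subtype.ext (by
        show Algebra.leftMulMatrix b ((x.1 * y.1 : Kˣ) : K) =
          Algebra.leftMulMatrix b ((x.1 : Kˣ) : K) * Algebra.leftMulMatrix b ((y.1 : Kˣ) : K)
        rw [← map_mul, Units.val_mul]) }
  let Φ : ↥(Subgroup.zpowers l) →* ↥(chevG2.group F) := (rho.comp ψ).codRestrict _ fun μ => rho_mem _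
  have hΦinj : Function.Injective Φ := by
    intro x y h
    have h1 := congrArg Subtype.val (rho_injective (congrArg Subtype.val h))
    exact Subtype.ext (Units.ext (Algebra.leftMulMatrix_injective b h1))
  refine ⟨Φ.range, isCyclic_of_surjective Φ.rangeRestrict Φ.rangeRestrict_surjective, ?_, ?_⟩
  · rw [← Nat.card_congr (MonoidHom.ofInjective hΦinj).toEquiv, Nat.card_zpowers, hlo]
  refine le_antisymm (fun y hy => ?_) (fun y hy => Subgroup.mem_centralizer_iff.2 fun z hz => ?_)
  swap
  · obtain ⟨a, rfl⟩ := hy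
    obtain ⟨c, rfl⟩ := hz
    rw [← map_mul, ← map_mul, mul_comm]
  -- the eigenvector matrix
  set M : SL(3, F) := ψ ⟨l, Subgroup.mem_zpowers l⟩ with hM
  have hMy : rho M * (y : GL chevG2.Idx F) = (y : GL chevG2.Idx F) * rho M :=
    congrArg Subtype.val (Subgroup.mem_centralizer_iff.1 hy (Φ ⟨l, Subgroup.mem_zpowers l⟩) ⟨_, rfl⟩)
  let lk : Fin 3 → Kˣ := ![l, l ^ q, l ^ (q * q)]
  have hdval : dval e = lk := by
    funext k
    simp only [dval, e, lk, if_true, one_ne_zero, if_false]
    fin_cases k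
    · simp only [Fin.zero_eta, Matrix.cons_val_zero]
      rw [div_eq_iff_eq_mul, ← pow_succ']
      ring_nf
    · simp only [Fin.mk_one, Matrix.cons_val_one, Matrix.head_cons, Matrix.cons_val_zero]
      rw [div_eq_iff_eq_mul, ← pow_mul, ← pow_add]
      ring_nf
    · simp only [Matrix.cons_val_two, Matrix.tail_cons, Matrix.head_cons, Fin.reduceFinMk]
      rw [inv_eq_iff_mul_eq_one, ← pow_add, ← hn0, hn]
      ring_nf
  let P : Matrix (Fin 3) (Fin 3) K := Matrix.of fun k i => (b i) ^ (q ^ (k : ℕ))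
  have hpow : ∀ (k : ℕ) (x : K), x ^ (q ^ k) = (σ^[k]) x := by
    intro k
    induction k with
    | zero => simp
    | succ k ih => intro x; rw [Function.iterate_succ', Function.comp_apply, ← ih, hσ, ← pow_mul, pow_succ]
  have hiter : ∀ (k : ℕ), (∀ x y : K, σ^[k] (x * y) = σ^[k] x * σ^[k] y) ∧
      (∀ f : Fin 3 → K, σ^[k] (∑ i, f i) = ∑ i, σ^[k] (f i)) ∧ ∀ a : F, σ^[k] (algebraMap F K a) = algebraMap F K a := by
    intro k
    induction k with
    | zero => simp
    | succ k ih =>
      simp only [Function.iterate_succ', Function.comp_apply]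
      refine ⟨fun x y => by rw [ih.1, map_mul], fun f => by rw [ih.2.1, map_sum], fun a => by rw [ih.2.2, hσf]⟩
  have hPM : P * (M.1.map (algebraMap F K)) = Matrix.diagonal (fun k => (lk k : K)) * P := by
    ext k j
    rw [Matrix.mul_apply, Matrix.diagonal_mul]
    have h1 : (l : K) * b j = ∑ i, algebraMap F K (M.1 i j) * b i := by
      have h2 := b.sum_repr ((l : K) * b j)
      conv_lhs => rw [← h2]
      refine Finset.sum_congr rfl fun i _ => ?_
      rw [Algebra.smul_def]
      congr 2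
      show _ = Algebra.leftMulMatrix b ((l : Kˣ) : K) i j
      rw [Algebra.leftMulMatrix_eq_repr_mul]
    simp only [P, Matrix.of_apply, Matrix.map_apply]
    have hlk : ((lk k : Kˣ) : K) = (l : K) ^ (q ^ (k : ℕ)) := by
      fin_cases k <;> simp [lk, sq]
    rw [hlk, ← mul_pow, h1, hpow, (hiter _).2.1]
    refine Finset.sum_congr rfl fun i _ => ?_
    rw [(hiter _).1, (hiter _).2.2, ← hpow, mul_comm]
  have hlk_inj : Function.Injective fun k => ((lk k : Kˣ) : K) := by
    have hlt : q * q < n := by rw [hn, sq]; omega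
    have hlt' : q < q * q := by nlinarith
    have hpi : ∀ i j : ℕ, i < n → j < n → l ^ i = l ^ j → i = j := fun i j hi hj h =>
      pow_injOn_Iio_orderOf (by rw [hlo]; exact hi) (by rw [hlo]; exact hj) h
    intro i j h
    have h' : lk i = lk j := Units.ext h
    have key : ∀ k : Fin 3, lk k = l ^ (![1, q, q * q] k) := fun k => by fin_cases k <;> simp [lk]
    rw [key, key] at h'
    have h3 := hpi _ _ (by fin_cases i <;> simp <;> omega) (by fin_cases j <;> simp <;> omega) h'
    fin_cases i <;> fin_cases j <;> simp at h3 ⊢ <;> omega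
  have hindep : LinearIndependent F fun m : Fin 3 => (l : K) ^ (m : ℕ) := by
    rw [Fintype.linearIndependent_iff]
    intro a ha i
    have h0 : (fun m => algebraMap F K (a m)) = 0 := by
      refine Matrix.eq_zero_of_forall_index_sum_mul_pow_eq_zero hlk_inj fun k => ?_
      have hlk : ((lk k : Kˣ) : K) = (l : K) ^ (q ^ (k : ℕ)) := by fin_cases k <;> simp [lk, sq]
      have h2 := congrArg (σ^[(k : ℕ)]) ha
      rw [(hiter _).2.1] at h2
      simp only [Algebra.smul_def, (hiter _).1, (hiter _).2.2, ← hpow] at h2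
      rw [zero_pow (pow_ne_zero _ (by omega))] at h2
      refine (Finset.sum_congr rfl fun m _ => ?_).trans h2
      rw [hlk, ← pow_mul, ← pow_mul, Nat.mul_comm (m : ℕ)]
    exact (algebraMap F K).injective (by rw [map_zero]; exact congrFun h0 i)
  have hPdet : P.det ≠ 0 := by
    intro h
    obtain ⟨a, ha0, ha⟩ := Matrix.exists_vecMul_eq_zero_iff.2 h
    have hlin : ∀ x : K, ∑ k : Fin 3, a k * x ^ (q ^ (k : ℕ)) = 0 := by
      intro x
      rw [← b.sum_repr x]
      have hi : ∀ k : Fin 3, (∑ i, b.repr x i • b i) ^ (q ^ (k : ℕ)) =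
          ∑ i, algebraMap F K (b.repr x i) * (b i) ^ (q ^ (k : ℕ)) := by
        intro k
        rw [hpow, (hiter _).2.1]
        exact Finset.sum_congr rfl fun i _ => by rw [Algebra.smul_def, (hiter _).1, (hiter _).2.2, hpow]
      simp only [hi]
      rw [Finset.sum_congr rfl fun k _ => Finset.mul_sum _ _ _]
      rw [Finset.sum_comm]
      refine Finset.sum_eq_zero fun i _ => ?_
      have h1 := congrFun ha i
      simp only [Matrix.vecMul, dotProduct, P, Matrix.of_apply, Pi.zero_apply] at h1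
      simp only [mul_left_comm (a _), ← Finset.mul_sum, h1, mul_zero]
    refine ha0 (Matrix.eq_zero_of_forall_pow_sum_mul_pow_eq_zero hlk_inj fun m => ?_)
    have hlk : ∀ k : Fin 3, ((lk k : Kˣ) : K) = (l : K) ^ (q ^ (k : ℕ)) := fun k => by
      fin_cases k <;> simp [lk, sq]
    refine (Finset.sum_congr rfl fun k _ => ?_).trans (hlin ((l : K) ^ (m : ℕ)))
    rw [hlk, ← pow_mul, ← pow_mul, Nat.mul_comm (m : ℕ)]
  let sc : Matrix (Fin 3) (Fin 3) K := Matrix.diagonal ![P.det⁻¹, 1, 1]
  let P' : SL(3, K) := ⟨sc * P, by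
    rw [Matrix.det_mul, Matrix.det_diagonal, Fin.prod_univ_three]
    simp [inv_mul_cancel₀ hPdet]⟩
  let f := algebraMap F K
  have hconj : P' * Matrix.SpecialLinearGroup.map f M = dSL e * P' := by
    refine Subtype.ext ?_
    rw [Matrix.SpecialLinearGroup.coe_mul, Matrix.SpecialLinearGroup.coe_mul, val_dSL, hdval]
    show sc * P * M.1.map f = _ * (sc * P)
    rw [mul_assoc, hPM, ← mul_assoc, ← mul_assoc, Matrix.diagonal_mul_diagonal, Matrix.diagonal_mul_diagonal]
    congr 2
    funext k
    exact mul_comm _ _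
  let mg := Matrix.GeneralLinearGroup.map (n := chevG2.Idx) f
  have hyK : mg (y : GL chevG2.Idx F) ∈ chevG2.group K :=
    ChevFixed.map_group_le C f ⟨_, y.2, rfl⟩
  set y' := rho P' * mg (y : GL chevG2.Idx F) * (rho P')⁻¹ with hy'
  have hc' : Commute y' (C.HT K e) := by
    rw [← rho_dSL, show dSL e = P' * Matrix.SpecialLinearGroup.map f M * P'⁻¹ by
      rw [hconj, mul_inv_cancel_right], map_mul, map_mul, map_inv, hy']
    have h1 : Commute (mg (y : GL chevG2.Idx F)) (rho (Matrix.SpecialLinearGroup.map f M)) := by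
      rw [← rho_map]
      show mg _ * mg _ = mg _ * mg _
      rw [← map_mul, ← map_mul, hMy]
    show _ = _
    calc (rho P' * mg y * (rho P')⁻¹) * (rho P' * rho (Matrix.SpecialLinearGroup.map f M) * (rho P')⁻¹)
        = rho P' * (mg y * rho (Matrix.SpecialLinearGroup.map f M)) * (rho P')⁻¹ := by group
      _ = rho P' * (rho (Matrix.SpecialLinearGroup.map f M) * mg y) * (rho P')⁻¹ := by rw [h1.eq]
      _ = _ := by group
  obtain ⟨e', he'⟩ := Regular.exists_HT_of_commute commOK_G2 hreg1 hreg2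
    (mul_mem (mul_mem (rho_mem P') hyK) (inv_mem (rho_mem P'))) hc'
  let s : SL(3, K) := P'⁻¹ * dSL e' * P'
  have hys : mg (y : GL chevG2.Idx F) = rho s := by
    rw [show rho s = (rho P')⁻¹ * rho (dSL e') * rho P' by simp [s], rho_dSL, ← he']
    group
  have hsfix : Matrix.SpecialLinearGroup.map σ s = s := by
    refine rho_injective ?_
    rw [← rho_map, ← hys]
    refine Units.ext (Matrix.ext fun i j => ?_)
    exact hσf _
  have hsF : ∀ i j, ∃ a : F, f a = s.1 i j := fun i j => hfixed _ (by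
    have := congrArg (fun g : SL(3, K) => g.1 i j) hsfix
    exact this)
  choose s₀ hs₀ using hsF
  have hmap : (Matrix.of s₀).map f = s.1 := Matrix.ext hs₀
  let s1 : SL(3, F) := ⟨Matrix.of s₀, f.injective (by
    rw [map_one, RingHom.map_det, RingHom.mapMatrix_apply, hmap]; exact s.2)⟩
  have hy1 : (y : GL chevG2.Idx F) = rho s1 := by
    refine ChevFixed.map_injective (f := f) f.injective ?_
    show mg _ = _
    rw [hys, rho_map]
    exact congrArg rho (Subtype.ext hmap.symm)
  have hcomm : Commute s1 M := by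
    refine rho_injective ?_
    rw [map_mul, map_mul, ← hy1, hMy]
  -- an endomorphism commuting with multiplication by l is a multiplication
  let L : K →ₗ[F] K := Matrix.toLin b b s1.1
  have hL : ∀ z, L ((l : K) * z) = (l : K) * L z := by
    intro z
    have h1 : Matrix.toLin b b M.1 = Algebra.lmul F K (l : K) := by
      show Matrix.toLin b b (Algebra.leftMulMatrix b (l : K)) = _
      rw [Algebra.leftMulMatrix_apply, Matrix.toLin_toMatrix]
    have h2 := congrArg (fun g : SL(3, F) => Matrix.toLin b b g.1 z) hcomm.eq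
    simp only [Matrix.SpecialLinearGroup.coe_mul, Matrix.toLin_mul b b b, LinearMap.comp_apply, h1] at h2
    exact h2
  set μ := L 1 with hμ
  have hLμ : L = Algebra.lmul F K μ := by
    refine (basisOfLinearIndependentOfCardEqFinrank hindep (by rw [hrank, Fintype.card_fin])).ext fun m => ?_
    rw [coe_basisOfLinearIndependentOfCardEqFinrank]
    show L ((l : K) ^ (m : ℕ)) = μ * (l : K) ^ (m : ℕ)
    generalize (m : ℕ) = k
    induction k with
    | zero => simp [hμ]
    | succ k ih => rw [_root_.pow_succ', hL, ih, mul_left_comm]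
  have hs1M : s1.1 = Algebra.leftMulMatrix b μ := by
    rw [Algebra.leftMulMatrix_apply, ← LinearMap.toMatrix_toLin b b s1.1]
    exact congrArg _ hLμ
  have hμn : μ ^ n = 1 := by
    have h1 : Algebra.norm F μ = 1 := by rw [Algebra.norm_eq_matrix_det b, ← hs1M]; exact s1.2
    have h2 := congrArg f h1
    rwa [FiniteField.algebraMap_norm_eq_pow, hK, hq', ← hqn, Nat.mul_div_cancel_left _ (by omega), map_one] at h2
  have hμu : IsUnit μ := IsUnit.of_pow_eq_one hμn (by omega)
  refine ⟨⟨hμu.unit, hlroot _ (Units.ext (by simp [hμn]))⟩, Subtype.ext ?_⟩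
  show rho _ = (y : GL chevG2.Idx F)
  rw [hy1]
  exact congrArg rho (Subtype.ext hs1M.symm)

end Cfsg.Agent.Lib.ChevStructure.G2Torus
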