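import Cfsg.Agent.Lib.ChevFixed.Field
import Cfsg.Agent.Lib.Linear.Transvection
import Cfsg.Agent.Lib.ChevStructure.Cert.G2

/-!
SL₃ inside the Chevalley group of type G₂, through the long roots: the adjoint module is the sum of
traceless matrices, vectors and covectors.
-/

set_option autoImplicit false
set_option linter.unusedSectionVars false

namespace Cfsg.Agent.Lib.ChevStructure.G2Torus

open Cfsg.Lie Matrix
open scoped MatrixGroups

/-- the core of G₂ -/
noncomputable abbrev C : Core chevG2 := Cert.G2.core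

/-- matrices, vectors, covectors -/
abbrev Tr (R : Type*) := Matrix (Fin 3) (Fin 3) R × (Fin 3 → R) × (Fin 3 → R)

variable {R : Type*} [CommRing R]

/-- the index of a root -/
def ix (r : Fin 12) : chevG2.Idx := Sum.inr r

/-- coordinates in the Chevalley basis -/
def valL : Tr R →ₗ[R] (chevG2.Idx → R) where
  toFun T := fun a => match a with
    | Sum.inl i => if i.val = 0 then -T.1 2 2 else T.1 0 0 - T.1 2 2
    | Sum.inr r => match r.val with
      | 6 => T.1 0 1 | 10 => T.1 1 2 | 11 => T.1 0 2 | 5 => T.1 1 0 | 1 => T.1 2 1 | 0 => T.1 2 0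
      | 8 => T.2.1 0 | 7 => T.2.1 1 | 2 => T.2.1 2
      | 3 => T.2.2 0 | 4 => T.2.2 1 | _ => T.2.2 2
  map_add' T U := by
    funext a
    rcases a with i | r
    · fin_cases i <;> simp <;> abel
    · fin_cases r <;> simp
  map_smul' c T := by
    funext a
    rcases a with i | r
    · fin_cases i <;> simp [mul_sub]
    · fin_cases r <;> simp

/-- the module element with given coordinates -/
def embL : (chevG2.Idx → R) →ₗ[R] Tr R where
  toFun c := (!![-c (Sum.inl ⟨0, by decide⟩) + c (Sum.inl ⟨1, by decide⟩), c (ix 6), c (ix 11);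
      c (ix 5), 2 * c (Sum.inl ⟨0, by decide⟩) - c (Sum.inl ⟨1, by decide⟩), c (ix 10);
      c (ix 0), c (ix 1), -c (Sum.inl ⟨0, by decide⟩)],
    ![c (ix 8), c (ix 7), c (ix 2)], ![c (ix 3), c (ix 4), c (ix 9)])
  map_add' c d := by
    refine Prod.ext ?_ (Prod.ext ?_ ?_)
    · ext i j; fin_cases i <;> fin_cases j <;> simp <;> ring
    · ext i; fin_cases i <;> simp
    · ext i; fin_cases i <;> simp
  map_smul' t c := by
    refine Prod.ext ?_ (Prod.ext ?_ ?_)
    · ext i j; fin_cases i <;> fin_cases j <;> simp <;> ring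
    · ext i; fin_cases i <;> simp
    · ext i; fin_cases i <;> simp

/-- the action of a pair of mutually inverse matrices -/
def actL (g gi : Matrix (Fin 3) (Fin 3) R) : Tr R →ₗ[R] Tr R where
  toFun T := (g * T.1 * gi, g *ᵥ T.2.1, T.2.2 ᵥ* gi)
  map_add' T U := by simp [mul_add, add_mul, Matrix.mulVec_add, Matrix.add_vecMul]
  map_smul' c T := by simp [Matrix.mulVec_smul, Matrix.smul_vecMul]

/-- the linear part of the action of a transvection -/
def d1L (A : Matrix (Fin 3) (Fin 3) R) : Tr R →ₗ[R] Tr R where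
  toFun T := (A * T.1 - T.1 * A, A *ᵥ T.2.1, -(T.2.2 ᵥ* A))
  map_add' T U := by
    simp only [Prod.fst_add, Prod.snd_add, mul_add, add_mul, Matrix.mulVec_add, Matrix.add_vecMul, neg_add,
      Prod.mk_add_mk]
    rw [add_sub_add_comm]
  map_smul' c T := by simp [Matrix.mulVec_smul, Matrix.smul_vecMul, smul_sub]

/-- the quadratic part of the action of a transvection -/
def d2L (A : Matrix (Fin 3) (Fin 3) R) : Tr R →ₗ[R] Tr R where
  toFun T := (-(A * T.1 * A), 0, 0)
  map_add' T U := by simp [mul_add, add_mul, add_comm]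
  map_smul' c T := by simp

/-- the matrix of an endomorphism of the module -/
def opM (L : Tr R →ₗ[R] Tr R) : Matrix chevG2.Idx chevG2.Idx R :=
  LinearMap.toMatrix' (valL ∘ₗ L ∘ₗ embL)

/-- the matrix of a pair of mutually inverse matrices -/
def rhoM (g gi : Matrix (Fin 3) (Fin 3) R) : Matrix chevG2.Idx chevG2.Idx R := opM (actL g gi)

theorem val_emb (c : chevG2.Idx → R) : valL (embL c) = c := by
  funext a
  rcases a with i | r
  · fin_cases i <;> simp [valL, embL]
  · fin_cases r <;> rfl

theorem emb_val {T : Tr R} (hT : T.1.trace = 0) : embL (valL T) = T := by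
  rw [Matrix.trace_fin_three] at hT
  refine Prod.ext ?_ (Prod.ext ?_ ?_)
  · ext i j
    fin_cases i <;> fin_cases j <;> simp [valL, embL, ix] <;> linear_combination -hT
  · funext i; fin_cases i <;> rfl
  · funext i; fin_cases i <;> rfl

theorem trace_emb (c : chevG2.Idx → R) : (embL c).1.trace = 0 := by
  simp [embL, Matrix.trace_fin_three]; ring

theorem trace_act {g gi : Matrix (Fin 3) (Fin 3) R} (h : gi * g = 1) {T : Tr R} (hT : T.1.trace = 0) :
    (actL g gi T).1.trace = 0 := by
  show (g * T.1 * gi).trace = 0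
  rw [Matrix.trace_mul_cycle, h, one_mul, hT]

theorem rhoM_mul {g gi h hi : Matrix (Fin 3) (Fin 3) R} (hh : hi * h = 1) :
    rhoM (g * h) (hi * gi) = rhoM g gi * rhoM h hi := by
  have key : valL (R := R) ∘ₗ actL (g * h) (hi * gi) ∘ₗ embL (R := R) =
      (valL (R := R) ∘ₗ actL g gi ∘ₗ embL (R := R)) ∘ₗ
        (valL (R := R) ∘ₗ actL h hi ∘ₗ embL (R := R)) := by
    refine LinearMap.ext fun c => ?_
    simp only [LinearMap.comp_apply]
    rw [emb_val (trace_act hh (trace_emb c))]
    congr 1
    simp [actL, mul_assoc, Matrix.mulVec_mulVec, Matrix.vecMul_vecMul]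
  simp only [rhoM, opM]
  rw [key, LinearMap.toMatrix'_comp]

theorem rhoM_one : rhoM (1 : Matrix (Fin 3) (Fin 3) R) 1 = 1 := by
  have key : valL (R := R) ∘ₗ actL (1 : Matrix (Fin 3) (Fin 3) R) 1 ∘ₗ embL (R := R) = LinearMap.id :=
    LinearMap.ext fun c => by simp [actL, val_emb]
  rw [rhoM, opM, key, LinearMap.toMatrix'_id]

theorem opM_apply (L : Tr R →ₗ[R] Tr R) (a b : chevG2.Idx) :
    opM L a b = valL (L (embL (Pi.single b 1))) a := LinearMap.toMatrix'_apply _ _ _

section Natural

variable {S : Type*} [CommRing S] (f : R →+* S)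

/-- entrywise image -/
def mapT (T : Tr R) : Tr S := (T.1.map f, f ∘ T.2.1, f ∘ T.2.2)

theorem val_map (T : Tr R) (a : chevG2.Idx) : valL (mapT f T) a = f (valL T a) := by
  rcases a with i | r
  · fin_cases i <;> simp [valL, mapT]
  · fin_cases r <;> rfl

theorem emb_map (c : chevG2.Idx → R) : embL (f ∘ c) = mapT f (embL c) := by
  refine Prod.ext ?_ (Prod.ext ?_ ?_)
  · ext i j; fin_cases i <;> fin_cases j <;> simp [embL, mapT, map_ofNat]
  · funext i; fin_cases i <;> rfl
  · funext i; fin_cases i <;> rfl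

theorem single_map (b : chevG2.Idx) : (f ∘ (Pi.single b (1 : R)) : chevG2.Idx → S) = Pi.single b 1 := by
  funext a
  by_cases h : a = b
  · subst h; simp
  · simp [h]

theorem opM_map {L : Tr R →ₗ[R] Tr R} {L' : Tr S →ₗ[S] Tr S} (h : ∀ T, L' (mapT f T) = mapT f (L T)) :
    opM L' = (opM L).map f := by
  ext a b
  rw [Matrix.map_apply, opM_apply, opM_apply, ← single_map f, emb_map, h, val_map]

theorem rhoM_map (g gi : Matrix (Fin 3) (Fin 3) R) : rhoM (g.map f) (gi.map f) = (rhoM g gi).map f := by
  refine opM_map f fun T => ?_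
  simp only [actL, LinearMap.coe_mk, AddHom.coe_mk, mapT]
  refine Prod.ext (by simp [Matrix.map_mul]) (Prod.ext ?_ ?_)
  · funext i; exact (RingHom.map_mulVec f g T.2.1 i).symm
  · funext i; exact (RingHom.map_vecMul f gi T.2.2 i).symm

theorem d1_map (A : Matrix (Fin 3) (Fin 3) R) : opM (d1L (A.map f)) = (opM (d1L A)).map f := by
  refine opM_map f fun T => ?_
  simp only [d1L, LinearMap.coe_mk, AddHom.coe_mk, mapT]
  refine Prod.ext ?_ (Prod.ext ?_ ?_)
  · rw [← Matrix.map_mul, ← Matrix.map_mul, Matrix.map_sub f (map_sub f)]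
  · funext i; exact (RingHom.map_mulVec f A T.2.1 i).symm
  · funext i
    simp only [Pi.neg_apply, Function.comp_apply, map_neg]
    exact congrArg Neg.neg (RingHom.map_vecMul f A T.2.2 i).symm

theorem d2_map (A : Matrix (Fin 3) (Fin 3) R) : opM (d2L (A.map f)) = (opM (d2L A)).map f := by
  refine opM_map f fun T => ?_
  simp only [d2L, LinearMap.coe_mk, AddHom.coe_mk, mapT]
  refine Prod.ext ?_ (Prod.ext ?_ ?_)
  · ext i j; simp [Matrix.mul_apply]
  · funext i; simp
  · funext i; simp

end Natural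

/-- the long root of a position off the diagonal -/
def lroot (i j : Fin 3) : Rt chevG2 :=
  ⟨[[0, 6, 11], [5, 0, 10], [0, 1, 0]].getD i.val [] |>.getD j.val 0 |> (· % 12), Nat.mod_lt _ (by norm_num)⟩

theorem d1_int : ∀ i j : Fin 3, i ≠ j →
    opM (d1L (Matrix.single i j (1 : ℤ))) = E chevG2 1 (lroot i j) := by decide +kernel

theorem d2_int : ∀ i j : Fin 3, i ≠ j →
    opM (d2L (Matrix.single i j (1 : ℤ))) = E chevG2 2 (lroot i j) := by decide +kernel

theorem E3_int : ∀ i j : Fin 3, i ≠ j → E chevG2 3 (lroot i j) = 0 := by decide +kernel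

theorem rhoM_transvection {i j : Fin 3} (hij : i ≠ j) (t : R) :
    rhoM (1 + Matrix.single i j t) (1 - Matrix.single i j t) = xI chevG2 R (lroot i j) t := by
  set A : Matrix (Fin 3) (Fin 3) R := Matrix.single i j 1 with hA
  have hA' : A = (Matrix.single i j (1 : ℤ)).map (Int.castRingHom R) := by
    ext a b; by_cases h : i = a ∧ j = b <;> simp [hA, Matrix.single, h]
  have ht : Matrix.single i j t = t • A := by simp [hA, Matrix.smul_single]
  have hlin : actL (1 + t • A) (1 - t • A) = LinearMap.id + t • d1L A + (t ^ 2) • d2L A := by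
    refine LinearMap.ext fun T => Prod.ext ?_ (Prod.ext ?_ ?_)
    · simp [actL, d1L, d2L, add_mul, mul_sub, smul_sub, sq, smul_smul, mul_assoc]
      abel
    · simp [actL, d1L, d2L, Matrix.add_mulVec, Matrix.smul_mulVec]
    · simp [actL, d1L, d2L, Matrix.vecMul_sub, Matrix.vecMul_smul]
      simp [sub_eq_add_neg]
  have hadd : ∀ L L' : Tr R →ₗ[R] Tr R, opM (L + L') = opM L + opM L' := fun L L' => by
    simp [opM, LinearMap.add_comp, LinearMap.comp_add]
  have hsmul : ∀ (c : R) (L : Tr R →ₗ[R] Tr R), opM (c • L) = c • opM L := fun c L => by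
    simp [opM, LinearMap.smul_comp, LinearMap.comp_smul]
  have hid : opM (LinearMap.id : Tr R →ₗ[R] Tr R) = 1 := by
    rw [opM, ← LinearMap.toMatrix'_id]
    congr 1
    exact LinearMap.ext fun c => by simp [val_emb]
  rw [rhoM, ht, hlin, hadd, hadd, hsmul, hsmul, hid, hA', d1_map, d2_map, d1_int i j hij, d2_int i j hij]
  simp only [xI, Finset.sum_range_succ, Finset.range_zero, Finset.sum_empty, zero_add, pow_zero, pow_one,
    one_smul, C.Ek_zero]
  have h3 : Ek chevG2 R 3 (lroot i j) = 0 := by
    show (E chevG2 3 (lroot i j)).map (Int.castRingHom R) = 0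
    rw [E3_int i j hij]; simp
  rw [h3, smul_zero, add_zero]
  rfl

/-- SL₃ in the general linear group of the module -/
def rho : SL(3, R) →* GL chevG2.Idx R :=
  MonoidHom.toHomUnits
    { toFun := fun g => rhoM (g : Matrix (Fin 3) (Fin 3) R) ((g⁻¹ : SL(3, R)) : Matrix (Fin 3) (Fin 3) R)
      map_one' := by rw [inv_one]; exact rhoM_one
      map_mul' := fun g h => by
        rw [_root_.mul_inv_rev, Matrix.SpecialLinearGroup.coe_mul, Matrix.SpecialLinearGroup.coe_mul]
        exact rhoM_mul (by rw [← Matrix.SpecialLinearGroup.coe_mul, inv_mul_cancel]; rfl) }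

theorem rho_val (g : SL(3, R)) : ((rho g : GL chevG2.Idx R) : Matrix chevG2.Idx chevG2.Idx R) =
    rhoM (g : Matrix (Fin 3) (Fin 3) R) ((g⁻¹ : SL(3, R)) : Matrix (Fin 3) (Fin 3) R) := rfl

theorem rho_injective : Function.Injective (rho (R := R)) := by
  refine (injective_iff_map_eq_one _).2 fun g hg => ?_
  have h := congrArg Units.val hg
  rw [rho_val, Units.val_one, rhoM, opM] at h
  have hv : ∀ u : Fin 3 → R, (g : Matrix (Fin 3) (Fin 3) R) *ᵥ u = u := by
    intro u
    have hT : ((0, u, 0) : Tr R).1.trace = 0 := Matrix.trace_zero _ _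
    have h1 := congrArg (fun M => M *ᵥ valL ((0, u, 0) : Tr R)) h
    simp only [LinearMap.toMatrix'_mulVec, LinearMap.comp_apply, Matrix.one_mulVec, emb_val hT] at h1
    have h2 := congrArg (fun c => (embL c).2.1) h1
    simp only [emb_val hT] at h2
    rw [emb_val (trace_act (by rw [← Matrix.SpecialLinearGroup.coe_mul, inv_mul_cancel]; rfl) hT)] at h2
    exact h2
  refine Subtype.ext (Matrix.ext_of_mulVec_single fun i => ?_)
  rw [hv, Matrix.SpecialLinearGroup.coe_one, Matrix.one_mulVec]

theorem rho_map {S : Type*} [CommRing S] (f : R →+* S) (g : SL(3, R)) :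
    Matrix.GeneralLinearGroup.map f (rho g) = rho (Matrix.SpecialLinearGroup.map f g) := by
  refine Units.ext ?_
  show (rhoM _ _).map f = rhoM _ _
  rw [← rhoM_map, ← map_inv]
  rfl

theorem rho_mem {F : Type*} [Field F] (g : SL(3, F)) : rho g ∈ chevG2.group F := by
  have h : (chevG2.group F).comap rho = ⊤ := by
    refine Linear.sl_eq_top_of_transvection_mem _ fun i j hij c => ?_
    have e : rho (Matrix.SpecialLinearGroup.transvection hij c) = C.X F (lroot i j) c := by
      refine Units.ext ?_
      refine (rho_val _).trans (Eq.trans ?_ ((rhoM_transvection hij c).trans (C.X_val F (lroot i j) c).symm))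
      congr 1
      have h1 : (1 + Matrix.single i j c) * (1 - Matrix.single i j c) = (1 : Matrix (Fin 3) (Fin 3) F) := by
        simp [mul_sub, add_mul, Ne.symm hij]
      rw [Matrix.SpecialLinearGroup.coe_inv, ← Matrix.inv_eq_right_inv h1, Matrix.inv_def]
      have hd : (1 + Matrix.single i j c).det = 1 := Matrix.det_transvection_of_ne i j hij c
      simp [Matrix.SpecialLinearGroup.transvection_coe, hd]
    rw [Subgroup.mem_comap, e]
    exact C.X_mem_group _ _
  exact (h.symm ▸ Subgroup.mem_top g : g ∈ (chevG2.group F).comap rho)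

end Cfsg.Agent.Lib.ChevStructure.G2Torus
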